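import Mathlib

/-!
Overgroups of the product action wreath group: the distance part.

A subgroup of `Perm (Fin k → Fin m)`, `m ≥ 5`, that is transitive on the pairs of points at each
Hamming distance is either doubly transitive or preserves the product structure.
-/

set_option autoImplicit false

namespace Cfsg.Agent.ProdAct

open Equiv Finset Function

variable {k m : ℕ}

/-- The product action form of a permutation. -/
def IsProdForm (σ : Perm (Fin k → Fin m)) : Prop :=
  ∃ (π : Perm (Fin k)) (τ : Fin k → Perm (Fin m)),
    ∀ (f : Fin k → Fin m) (i : Fin k), σ f i = τ i (f (π.symm i))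

theorem hammingDist_update {ι α : Type*} [Fintype ι] [DecidableEq ι] [DecidableEq α]
    (a : ι → α) (i : ι) {t : α} (h : t ≠ a i) : hammingDist a (update a i t) = 1 := by
  rw [hammingDist, card_eq_one]
  refine ⟨i, ?_⟩
  ext j
  by_cases hj : j = i
  · subst hj; simp [Ne.symm h]
  · simp [hj]

theorem exists_of_hammingDist_eq_one {ι α : Type*} [Fintype ι] [DecidableEq ι] [DecidableEq α]
    {a b : ι → α} (h : hammingDist a b = 1) : ∃ i, a i ≠ b i ∧ ∀ j, j ≠ i → a j = b j := by
  rw [hammingDist, card_eq_one] at h
  obtain ⟨i, hi⟩ := h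
  refine ⟨i, ?_, fun j hj => ?_⟩
  · have := (Finset.ext_iff.1 hi i).2 (mem_singleton_self i)
    simpa using this
  · by_contra hne
    exact hj (mem_singleton.1 ((Finset.ext_iff.1 hi j).1 (by simpa using hne)))

/-- A property preserved by changing single coordinates other than those of `J` depends only on the
coordinates in `J`. -/
theorem iff_of_update_invariant {ι α : Type*} [Fintype ι] [DecidableEq ι] [DecidableEq α]
    {β : Type*} (F : (ι → α) → β) (J : ι → Prop)
    (hF : ∀ a l s, ¬ J l → F (update a l s) = F a) :
    ∀ (n : ℕ) (a b : ι → α), hammingDist a b ≤ n → (∀ i, J i → a i = b i) → F a = F b := by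
  intro n
  induction n with
  | zero =>
    intro a b h _
    rw [hammingDist_eq_zero.1 (Nat.le_zero.1 h)]
  | succ n ih =>
    intro a b h hJ
    by_cases hab : a = b
    · rw [hab]
    · obtain ⟨l, hl⟩ := Function.ne_iff.1 hab
      have hlJ : ¬ J l := fun hJl => hl (hJ l hJl)
      rw [← hF a l (b l) hlJ]
      refine ih _ _ ?_ ?_
      · have hsub : (univ.filter fun i => update a l (b l) i ≠ b i)
            ⊆ (univ.filter fun i => a i ≠ b i).erase l := by
          intro i hi
          by_cases hil : i = l
          · subst hil; simp at hi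
          · simpa [hil] using hi
        have := card_le_card hsub
        rw [card_erase_of_mem (by simpa using hl)] at this
        simp only [hammingDist] at h ⊢
        omega
      · intro i hi
        have : i ≠ l := fun e => hlJ (e ▸ hi)
        simp [this, hJ i hi]

/-- A permutation preserving Hamming distance one has product form. -/
theorem isProdForm_of_preserves (hm : 3 ≤ m) (σ : Perm (Fin k → Fin m))
    (hσ : ∀ a b, hammingDist a b = 1 ↔ hammingDist (σ a) (σ b) = 1) : IsProdForm σ := by
  classical
  have hval : ∀ (a : Fin k → Fin m) (i : Fin k), ∃ t, t ≠ a i := fun a i => by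
    obtain ⟨t, ht⟩ := Fintype.exists_ne_of_one_lt_card (by simpa using (by omega : 1 < m)) (a i)
    exact ⟨t, ht⟩
  choose nt hnt using hval
  have h1 := fun a i => (exists_of_hammingDist_eq_one
    ((hσ _ _).1 (hammingDist_update a i (hnt a i))))
  choose c hc1 hc2 using h1
  -- images of lines
  have hline : ∀ a i t, t ≠ a i → σ a (c a i) ≠ σ (update a i t) (c a i) ∧
      ∀ j, j ≠ c a i → σ a j = σ (update a i t) j := by
    intro a i t ht
    by_cases htn : t = nt a i
    · subst htn; exact ⟨hc1 a i, hc2 a i⟩
    obtain ⟨p, hp1, hp2⟩ := exists_of_hammingDist_eq_one ((hσ _ _).1 (hammingDist_update a i ht))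
    have hd : hammingDist (update a i (nt a i)) (update a i t) = 1 := by
      have := hammingDist_update (update a i (nt a i)) i (t := t) (by simpa using htn)
      simpa using this
    obtain ⟨q, hq1, hq2⟩ := exists_of_hammingDist_eq_one ((hσ _ _).1 hd)
    suffices p = c a i by subst this; exact ⟨hp1, hp2⟩
    by_contra hpc
    have e1 : σ (update a i (nt a i)) p = σ a p := (hc2 a i p hpc).symm
    have e2 : σ (update a i t) (c a i) = σ a (c a i) := (hp2 (c a i) (Ne.symm hpc)).symm
    have q1 : p = q := by
      by_contra h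
      exact hp1 (e1.symm.trans (hq2 p h))
    have q2 : c a i = q := by
      by_contra h
      exact hc1 a i (e2.symm.trans (hq2 _ h).symm)
    exact hpc (q1.trans q2.symm)
  have hinj : ∀ a, Injective (c a) := by
    intro a i j hij
    by_contra hne
    have hd : hammingDist (update a i (nt a i)) (update a j (nt a j)) ≠ 1 := by
      intro h
      obtain ⟨q, -, hq⟩ := exists_of_hammingDist_eq_one h
      have q1 : i = q := by
        by_contra hh
        have := hq i hh
        simp [hne] at this
        exact hnt a i this
      have q2 : j = q := by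
        by_contra hh
        have := hq j hh
        simp [Ne.symm hne] at this
        exact hnt a j this.symm
      exact hne (q1.trans q2.symm)
    apply hd
    rw [hσ, hammingDist, card_eq_one]
    refine ⟨c a i, ?_⟩
    ext q
    simp only [mem_filter, mem_univ, true_and, mem_singleton]
    constructor
    · intro hq
      by_contra hne'
      exact hq (((hc2 a i q hne').symm).trans (hc2 a j q (hij ▸ hne')))
    · rintro rfl he
      have : update a i (nt a i) = update a j (nt a j) := by
        apply σ.injective
        funext q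
        by_cases hq : q = c a i
        · rw [hq]; exact he
        · exact ((hc2 a i q hq).symm).trans (hc2 a j q (hij ▸ hq))
      have := congrFun this i
      simp [hne] at this
      exact hnt a i this
  have hconst : ∀ a l s, c (update a l s) = c a := by
    intro a l s
    by_cases hs : s = a l
    · subst hs; rw [update_eq_self]
    funext i
    obtain ⟨hp1, hp2⟩ := hline a l s hs
    have hcl : c (update a l s) l = c a l := by
      obtain ⟨hr1, -⟩ := hline (update a l s) l (a l) (by simpa using Ne.symm hs)
      simp only [update_idem, update_eq_self] at hr1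
      by_contra h
      exact hr1 (hp2 _ h).symm
    by_cases hil : i = l
    · subst hil; exact hcl
    set t := nt a i
    have ht : t ≠ a i := hnt a i
    obtain ⟨hq1, hq2⟩ := hline a i t ht
    obtain ⟨hr1, hr2⟩ := hline (update a l s) i t (by simpa [hil] using ht)
    rw [update_comm (Ne.symm hil)] at hr1 hr2
    obtain ⟨hu1, hu2⟩ := hline (update a i t) l s (by simpa [Ne.symm hil] using hs)
    have hpq : c a i ≠ c a l := fun e => hil (hinj a e)
    have hpr : c (update a l s) i ≠ c a l := by
      rw [← hcl]; exact fun e => hil (hinj _ e)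
    have hu : c (update a i t) l = c a l := by
      by_contra h
      have e := hu2 (c a l) (Ne.symm h)
      exact hp1 ((hq2 _ (Ne.symm hpq)).trans (e.trans (hr2 _ (Ne.symm hpr)).symm))
    by_contra hne
    refine hq1 ?_
    rw [hu2 (c a i) (hu ▸ hpq), ← hr2 _ (Ne.symm hne)]
    exact hp2 _ hpq
  have hglob : ∀ a b, c a = c b := fun a b =>
    iff_of_update_invariant c (fun _ => False) (fun a l s _ => hconst a l s) _ a b le_rfl
      (fun _ h => h.elim)
  let o : Fin k → Fin m := fun _ => ⟨0, by omega⟩
  let π : Perm (Fin k) :=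
    Equiv.ofBijective (c o) (Finite.injective_iff_bijective.1 (hinj o))
  let τ₀ : Fin k → Fin m → Fin m := fun i t => σ (update o i t) (π i)
  have hdep : ∀ f i, σ f (π i) = τ₀ i (f i) := by
    intro f i
    refine iff_of_update_invariant (fun a => σ a (π i)) (fun j => j = i) ?_ _ f
      (update o i (f i)) le_rfl ?_
    · intro a l s hl
      by_cases hs : s = a l
      · subst hs; simp
      refine ((hline a l s hs).2 (π i) ?_).symm
      rw [hglob a o]
      exact fun e => hl (hinj o e).symm
    · rintro j rfl; simp
  have hτ : ∀ i, Bijective (τ₀ i) := by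
    intro i
    refine Finite.injective_iff_bijective.1 fun t t' he => ?_
    by_contra hne
    obtain ⟨h, -⟩ := hline (update o i t) i t' (by simpa using Ne.symm hne)
    rw [hglob _ o, update_idem] at h
    exact h he
  refine ⟨π, fun i => Equiv.ofBijective _ (hτ (π.symm i)), fun f i => ?_⟩
  have := hdep f (π.symm i)
  rw [π.apply_symm_apply] at this
  simpa using this

/-- The column count. -/
theorem column_count {β : Type*} [DecidableEq β] (f : ℕ → β) {p q : Fin m} (hpq : p ≠ q) (w w' : ℕ) :
    (univ.filter fun t : Fin m => f ((if t = p then 0 else 1) + w)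
      ≠ f ((if t = q then 0 else 1) + w')).card
    = (if f w ≠ f (w' + 1) then 1 else 0) + (if f (w + 1) ≠ f w' then 1 else 0)
      + (m - 2) * (if f (w + 1) ≠ f (w' + 1) then 1 else 0) := by
  rw [card_filter, ← sum_add_sum_compl {p, q}, sum_pair hpq]
  rw [sum_congr rfl (g := fun _ => if f (w + 1) ≠ f (w' + 1) then 1 else 0)]
  · simp [hpq, Ne.symm hpq, card_compl, add_comm 1, Nat.sub_sub]
  · intro t ht
    simp only [mem_compl, mem_insert, mem_singleton, not_or] at ht
    simp [ht.1, ht.2, add_comm 1]

/-- The number of points telling `x` and `y` apart. -/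
def sepCount {β : Type*} [DecidableEq β] (f : ℕ → β) (x y : Fin k → Fin m) : ℕ :=
  (univ.filter fun z => f (hammingDist z x) ≠ f (hammingDist z y)).card

theorem hammingDist_split {α : Type*} [DecidableEq α] (i : Fin k) (z x : Fin k → α) :
    hammingDist z x = (if z i = x i then 0 else 1)
      + hammingDist (fun j : {j // j ≠ i} => z j) (fun j : {j // j ≠ i} => x j) := by
  have h1 : hammingDist (fun j : {j // j ≠ i} => z j) (fun j : {j // j ≠ i} => x j)
      = ((univ.filter fun j => z j ≠ x j).erase i).card := by
    refine card_bij (fun j _ => j.1) ?_ (fun a _ b _ h => Subtype.ext h) ?_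
    · intro j hj; simp only [mem_filter, mem_univ, true_and] at hj; simp [j.2, hj]
    · intro j hj
      simp only [mem_erase, mem_filter, mem_univ, true_and] at hj
      exact ⟨⟨j, hj.1⟩, by simp [hj.2], rfl⟩
  rw [h1, hammingDist]
  by_cases h : z i = x i
  · rw [erase_eq_of_notMem (by simp [h])]; simp [h]
  · rw [if_neg h, card_erase_of_mem (by simp [h])]
    have : 0 < (univ.filter fun j => z j ≠ x j).card := card_pos.2 ⟨i, by simp [h]⟩
    omega

/-- The columnwise inequality. -/
theorem sepCount_lt {β : Type*} [DecidableEq β] (hm : 5 ≤ m) (f : ℕ → β)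
    {w₀ : ℕ} (hw0 : 1 ≤ w₀) (hwk : w₀ ≤ k) (hf : f w₀ ≠ f 1)
    (x y : Fin k → Fin m) (hd : 2 ≤ hammingDist x y) :
    ∃ e, hammingDist x e = 1 ∧ sepCount f x e < sepCount f x y := by
  classical
  obtain ⟨i, hi⟩ : ∃ i, x i ≠ y i := by
    by_contra h
    simp only [not_exists, not_not] at h
    rw [funext h, hammingDist_self] at hd
    omega
  refine ⟨update x i (y i), hammingDist_update x i (Ne.symm hi), ?_⟩
  set e := update x i (y i)
  let K := {j : Fin k // j ≠ i} → Fin m
  let x' : K := fun j => x j
  let y' : K := fun j => y j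
  let w : K → ℕ := fun z => hammingDist z x'
  let w' : K → ℕ := fun z => hammingDist z y'
  have key : ∀ v : Fin k → Fin m, sepCount f x v = ∑ z : K,
      (univ.filter fun t : Fin m => f ((if t = x i then 0 else 1) + w z)
        ≠ f ((if t = v i then 0 else 1) + hammingDist z (fun j : {j // j ≠ i} => v j))).card := by
    intro v
    simp only [sepCount, card_filter]
    rw [← Equiv.sum_comp (Equiv.funSplitAt i (Fin m)).symm, Fintype.sum_prod_type, sum_comm]
    refine sum_congr rfl fun z _ => sum_congr rfl fun t _ => ?_
    have hz : (fun j : {j // j ≠ i} => (Equiv.funSplitAt i (Fin m)).symm (t, z) j) = z := by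
      funext j; simp [Equiv.funSplitAt, Equiv.piSplitAt, j.2]
    have ht : (Equiv.funSplitAt i (Fin m)).symm (t, z) i = t := by
      simp [Equiv.funSplitAt, Equiv.piSplitAt]
    rw [hammingDist_split i _ x, hammingDist_split i _ v, hz, ht]
  have hxy := key y
  have hxe := key e
  have ee : (fun j : {j // j ≠ i} => e j) = x' := by
    funext j; simp [e, x', j.2]
  rw [ee] at hxe
  have hei : e i = y i := by simp [e]
  rw [hei] at hxe
  simp only [column_count f hi] at hxy hxe
  have hy' : (fun j : {j // j ≠ i} => y j) = y' := rfl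
  rw [hy'] at hxy
  -- the bijection exchanging the two ends
  let σ : Perm K := Equiv.piCongrRight fun j => Equiv.swap (x' j) (y' j)
  have hσ : ∀ z, w' (σ z) = w z := by
    intro z
    simp only [w, w', hammingDist]
    congr 1
    ext j
    simp only [mem_filter, mem_univ, true_and, σ]
    show ¬ Equiv.swap (x' j) (y' j) (z j) = y' j ↔ ¬ z j = x' j
    rw [Equiv.swap_apply_eq_iff, Equiv.swap_apply_right]
  have hbij : ∑ z : K, (if f (w z) ≠ f (w z + 1) then 1 else 0)
      = ∑ z : K, (if f (w' z) ≠ f (w' z + 1) then 1 else 0) := by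
    rw [← Equiv.sum_comp σ (fun z => if f (w' z) ≠ f (w' z + 1) then 1 else 0)]
    simp [hσ]
  -- a column with strict inequality
  obtain ⟨z₀, hz₀⟩ : ∃ z, f (w z + 1) ≠ f (w' z + 1) := by
    by_contra hall
    simp only [not_exists, not_not] at hall
    obtain ⟨j₀, hj₀⟩ : ∃ j, x' j ≠ y' j := by
      by_contra h
      simp only [not_exists, not_not] at h
      have := hammingDist_split i x y
      rw [if_neg hi] at this
      rw [show (fun j : {j // j ≠ i} => x j) = (fun j : {j // j ≠ i} => y (j : Fin k)) from funext h,
        hammingDist_self] at this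
      omega
    have step : ∀ v, v + 2 ≤ k → f (v + 1) = f (v + 2) := by
      intro v hv
      have hc : (univ.erase j₀ : Finset {j // j ≠ i}).card = k - 2 := by
        rw [card_erase_of_mem (mem_univ _), card_univ, Fintype.card_subtype_compl,
          Fintype.card_fin, Fintype.card_subtype_eq]
        omega
      obtain ⟨T, hT, hTc⟩ := exists_subset_card_eq (n := v) (s := univ.erase j₀) (by omega)
      have hnt : ∀ a b : Fin m, ∃ t, t ≠ a ∧ t ≠ b := by
        intro a b
        obtain ⟨t, ht⟩ : (univ \ {a, b} : Finset (Fin m)).Nonempty := by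
          rw [← card_pos, card_sdiff_of_subset (subset_univ _), card_univ, Fintype.card_fin]
          have : ({a, b} : Finset (Fin m)).card ≤ 2 := card_le_two
          omega
        simp at ht
        exact ⟨t, ht⟩
      choose third h3a h3b using hnt
      let z : K := fun j => if j ∈ T then third (x' j) (x' j) else x' j
      have hj₀T : j₀ ∉ T := fun h => (mem_erase.1 (hT h)).1 rfl
      have hw : w z = v := by
        rw [← hTc]
        simp only [w, hammingDist]
        congr 1
        ext j
        by_cases hj : j ∈ T <;> simp [z, hj, h3a]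
      let z₂ : K := update z j₀ (third (x' j₀) (y' j₀))
      have hw2 : w z₂ = v + 1 := by
        rw [← hTc, ← card_insert_of_notMem hj₀T]
        simp only [w, hammingDist]
        congr 1
        ext j
        by_cases hjj : j = j₀
        · subst hjj; simp [z₂, h3a]
        · by_cases hj : j ∈ T <;> simp [z₂, z, hjj, hj, h3a]
      have hw'2 : w' z₂ = w' z := by
        simp only [w', hammingDist]
        congr 1
        ext j
        by_cases hjj : j = j₀
        · subst hjj; simp [z₂, z, hj₀T, h3b, hj₀]
        · simp [z₂, hjj]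
      have e1 := hall z
      have e2 := hall z₂
      rw [hw] at e1
      rw [hw2, hw'2] at e2
      exact e1.trans e2.symm
    have : ∀ v, v + 1 ≤ k → f (v + 1) = f 1 := by
      intro v
      induction v with
      | zero => simp
      | succ v ih => intro hv; rw [← step v hv, ih (by omega)]
    apply hf
    have h := this (w₀ - 1) (by omega)
    rwa [Nat.sub_add_cancel hw0] at h
  rw [hxy, hxe]
  calc ∑ z : K, ((if f (w z) ≠ f (w z + 1) then 1 else 0)
        + (if f (w z + 1) ≠ f (w z) then 1 else 0)
        + (m - 2) * (if f (w z + 1) ≠ f (w z + 1) then 1 else 0))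
      = ∑ z : K, ((if f (w z) ≠ f (w z + 1) then 1 else 0)
        + (if f (w' z) ≠ f (w' z + 1) then 1 else 0)) := by
        rw [sum_add_distrib (g := fun z => if f (w' z) ≠ f (w' z + 1) then 1 else 0), ← hbij,
          ← sum_add_distrib]
        refine sum_congr rfl fun z _ => ?_
        simp [eq_comm]
    _ < _ := by
        refine sum_lt_sum (fun z _ => ?_) ⟨z₀, mem_univ _, ?_⟩
        · show _ ≤ (if f (w z) ≠ f (w' z + 1) then 1 else 0)
            + (if f (w z + 1) ≠ f (w' z) then 1 else 0)
            + (m - 2) * (if f (w z + 1) ≠ f (w' z + 1) then 1 else 0)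
          by_cases hb : f (w z + 1) = f (w' z + 1)
          · simp [hb, eq_comm]
          · simp only [ne_eq, hb, not_false_eq_true, if_true]
            split_ifs <;> omega
        · show _ < (if f (w z₀) ≠ f (w' z₀ + 1) then 1 else 0)
            + (if f (w z₀ + 1) ≠ f (w' z₀) then 1 else 0)
            + (m - 2) * (if f (w z₀ + 1) ≠ f (w' z₀ + 1) then 1 else 0)
          simp only [ne_eq, hz₀, not_false_eq_true, if_true]
          split_ifs <;> omega

/-- An overgroup is doubly transitive or preserves the product structure. -/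
theorem twoTransitive_or_isProdForm (hm : 5 ≤ m) (H : Subgroup (Perm (Fin k → Fin m)))
    (htrans : ∀ x y x' y' : Fin k → Fin m, hammingDist x y = hammingDist x' y' →
      ∃ h ∈ H, h x = x' ∧ h y = y') :
    (∀ a a' b b' : Fin k → Fin m, a ≠ a' → b ≠ b' → ∃ h ∈ H, h a = b ∧ h a' = b') ∨
      ∀ σ ∈ H, IsProdForm σ := by
  classical
  let q : (Fin k → Fin m) → (Fin k → Fin m) → Prop :=
    fun a b => ∃ h ∈ H, hammingDist (h a) (h b) = 1
  let f : ℕ → Bool := fun d => decide (∃ a b, hammingDist a b = d ∧ q a b)
  have hqf : ∀ a b, f (hammingDist a b) = true ↔ q a b := by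
    intro a b
    simp only [f, decide_eq_true_eq]
    refine ⟨?_, fun h => ⟨a, b, rfl, h⟩⟩
    rintro ⟨a', b', he, h, hh, hd⟩
    obtain ⟨g, hg, rfl, rfl⟩ := htrans a b a' b' he.symm
    exact ⟨h * g, H.mul_mem hh hg, hd⟩
  by_cases hall : ∀ a b : Fin k → Fin m, a ≠ b → q a b
  · left
    intro a a' b b' ha hb
    obtain ⟨h1, h1m, e1⟩ := hall a a' ha
    obtain ⟨h2, h2m, e2⟩ := hall b b' hb
    obtain ⟨g, hg, g1, g2⟩ := htrans _ _ _ _ (e1.trans e2.symm)
    refine ⟨h2⁻¹ * g * h1, H.mul_mem (H.mul_mem (H.inv_mem h2m) hg) h1m, ?_, ?_⟩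
    · simp [g1]
    · simp [g2]
  right
  simp only [not_forall] at hall
  obtain ⟨a₀, b₀, hab, hnq⟩ := hall
  have hw0 : 1 ≤ hammingDist a₀ b₀ := hammingDist_pos.2 hab
  have hwk : hammingDist a₀ b₀ ≤ k := by
    simpa using hammingDist_le_card_fintype (x := a₀) (y := b₀)
  have hf1 : f 1 = true := by
    obtain ⟨i⟩ : Nonempty (Fin k) := ⟨⟨0, by omega⟩⟩
    obtain ⟨t, ht⟩ := Fintype.exists_ne_of_one_lt_card
      (by simpa using (by omega : 1 < m)) (a₀ i)
    have hd := hammingDist_update a₀ i ht
    rw [← hd, hqf]
    exact ⟨1, H.one_mem, by simpa using hd⟩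
  have hne : f (hammingDist a₀ b₀) ≠ f 1 := by
    rw [hf1, ne_eq, hqf]; exact hnq
  have hinv : ∀ h ∈ H, ∀ a b, f (hammingDist (h a) (h b)) = f (hammingDist a b) := by
    intro h hh a b
    rw [Bool.eq_iff_iff, hqf, hqf]
    constructor
    · rintro ⟨g, hg, hd⟩; exact ⟨g * h, H.mul_mem hg hh, hd⟩
    · rintro ⟨g, hg, hd⟩; exact ⟨g * h⁻¹, H.mul_mem hg (H.inv_mem hh), by simpa using hd⟩
  have hD : ∀ h ∈ H, ∀ a b, sepCount f (h a) (h b) = sepCount f a b := by
    intro h hh a b
    refine (card_equiv h fun z => ?_).symm
    simp [hinv h hh]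
  have hpres : ∀ h ∈ H, ∀ a b, hammingDist a b = 1 → hammingDist (h a) (h b) = 1 := by
    intro h hh a b hab
    by_contra hne1
    have h2 : 2 ≤ hammingDist (h a) (h b) := by
      have : 0 < hammingDist (h a) (h b) := by
        refine hammingDist_pos.2 fun e => ?_
        rw [h.injective e, hammingDist_self] at hab
        omega
      omega
    obtain ⟨e, he1, he2⟩ := sepCount_lt hm f hw0 hwk hne _ _ h2
    obtain ⟨g, hg, g1, g2⟩ := htrans (h a) e a b (he1.trans hab.symm)
    have h3 := hD g hg (h a) e
    rw [g1, g2] at h3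
    rw [hD h hh, h3] at he2
    exact lt_irrefl _ he2
  intro σ hσ
  refine isProdForm_of_preserves (by omega) σ fun a b => ⟨hpres σ hσ a b, fun h => ?_⟩
  have := hpres σ⁻¹ (H.inv_mem hσ) _ _ h
  simpa using this

end Cfsg.Agent.ProdAct
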